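import Groth.Agent.FinDimRep.Solve
import Groth.Agent.BrownRepW.Adjoint
import Groth.Agent.BrownRep.Compact
import Mathlib.CategoryTheory.Linear.Yoneda

/-!
# Representability of cohomological functors with finite dimensional values on small subcategories

For a small additive subcategory `G : J ⥤ D` of compact objects closed under fibres, a linear functor
`H : Jᵒᵖ ⥤ ModuleCat k` with finite dimensional values which is exact on triangles is represented by an object of `D`:
morphisms from the restricted Yoneda functor to `H` form a cohomological functor on `D`.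
-/

set_option autoImplicit false
set_option linter.style.haveILetI false
set_option linter.unusedSectionVars false
set_option backward.isDefEq.respectTransparency false

universe w v u t

open CategoryTheory Limits Opposite Pretriangulated
open CategoryTheory.Pretriangulated.Opposite

noncomputable section

namespace Groth.Agent.FinDimRep

variable {k : Type t} [Field k]
  {D : Type u} [Category.{v} D] [Preadditive D] [Linear k D]
  {J : Type v} [Category.{v} J] [Preadditive J] [Linear k J]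
  (G : J ⥤ D) [G.Full] [G.Faithful] [G.Additive] [G.Linear k]

/-- The restricted Yoneda functor. -/
def R : D ⥤ Jᵒᵖ ⥤ ModuleCat.{v} k := linearYoneda k D ⋙ (Functor.whiskeringLeft _ _ _).obj G.op

theorem R_map_app {X Y : D} (f : X ⟶ Y) (j : J) (c : G.obj j ⟶ X) :
    ((R (k := k) G).map f).app (op j) c = c ≫ f := rfl

theorem R_obj_map {X : D} {i j : J} (f : i ⟶ j) (c : G.obj j ⟶ X) :
    ((R (k := k) G).obj X).map f.op c = G.map f ≫ c := rfl

instance additive_R : (R (k := k) G).Additive where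
  map_add {X Y f g} := by
    ext j c
    exact Preadditive.comp_add _ _ _ _ _ _

section Biprod

variable [HasFiniteBiproducts J] {α : Type} [Fintype α] (f : α → J)

theorem ι_sum {C : D} (b : ∀ a, G.obj (f a) ⟶ C) (a : α) :
    G.map (biproduct.ι f a) ≫ ∑ a', G.map (biproduct.π f a') ≫ b a' = b a := by
  classical
  rw [Preadditive.comp_sum, Finset.sum_eq_single a]
  · rw [← G.map_comp_assoc, biproduct.ι_π_self, G.map_id, Category.id_comp]
  · intro a' _ h
    rw [← G.map_comp_assoc, biproduct.ι_π_ne _ h.symm, G.map_zero, zero_comp]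
  · exact fun h => absurd (Finset.mem_univ a) h

theorem hom_ext_ι {C : D} (g g' : G.obj (⨁ f) ⟶ C)
    (h : ∀ a, G.map (biproduct.ι f a) ≫ g = G.map (biproduct.ι f a) ≫ g') : g = g' := by
  classical
  have ht : 𝟙 (G.obj (⨁ f)) = ∑ a, G.map (biproduct.π f a ≫ biproduct.ι f a) := by
    rw [← G.map_sum]
    exact (G.map_id _).symm.trans (congrArg G.map (biproduct.total (f := f)).symm)
  rw [← Category.id_comp g, ← Category.id_comp g', ht, Preadditive.sum_comp, Preadditive.sum_comp]
  exact Finset.sum_congr rfl fun a _ => by rw [G.map_comp, Category.assoc, Category.assoc, h a]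

end Biprod

variable (H : Jᵒᵖ ⥤ ModuleCat.{v} k) [H.Additive]

/-- The cohomological functor extending `H`. -/
def Hbar : Dᵒᵖ ⥤ AddCommGrpCat.{v} := (R (k := k) G).op ⋙ preadditiveYoneda.obj H

section Exact

variable [HasZeroObject D] [HasShift D ℤ] [∀ n : ℤ, (shiftFunctor D n).Additive] [Pretriangulated D]
  [HasFiniteBiproducts J]
  (hlin : ∀ (i j : J) (r : k) (f : i ⟶ j), H.map (r • f).op = r • H.map f.op)
  (hfib : ∀ {i j : J} (f : i ⟶ j), ∃ (l : J) (s : l ⟶ i) (z : G.obj j ⟶ (G.obj l)⟦(1 : ℤ)⟧),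
    Triangle.mk (G.map s) (G.map f) z ∈ distTriang D)
  (hcoh : ∀ {l i j : J} (s : l ⟶ i) (f : i ⟶ j) (z : G.obj j ⟶ (G.obj l)⟦(1 : ℤ)⟧),
    Triangle.mk (G.map s) (G.map f) z ∈ distTriang D →
    ∀ y : H.obj (op i), H.map s.op y = 0 → ∃ x : H.obj (op j), H.map f.op x = y)
  (hfin : ∀ j : J, Module.Finite k (H.obj (op j)))

include hlin hfib hcoh hfin

/-- Values of an extension at a single object, compatible with all relations. -/
theorem exists_local {T : Triangle D} (hT : T ∈ distTriang D) (η : (R (k := k) G).obj T.obj₂ ⟶ H)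
    (hη : (R (k := k) G).map T.mor₁ ≫ η = 0) (j : J) (c : G.obj j ⟶ T.obj₃) :
    ∃ z : H.obj (op j), ∀ (i : J) (u : i ⟶ j) (b : G.obj i ⟶ T.obj₂),
      G.map u ≫ c = b ≫ T.mor₂ → H.map u.op z = η.app (op i) b := by
  classical
  have single : ∀ (i : J) (u : i ⟶ j) (b : G.obj i ⟶ T.obj₂), G.map u ≫ c = b ≫ T.mor₂ →
      ∃ z : H.obj (op j), H.map u.op z = η.app (op i) b := by
    intro i u b hb
    obtain ⟨l, s, z, hl⟩ := hfib u
    refine hcoh s u z hl _ ?_
    have h0 : G.map s ≫ G.map u = 0 := comp_distTriang_mor_zero₁₂ _ hl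
    obtain ⟨a, ha⟩ := Triangle.coyoneda_exact₂ T hT (G.map s ≫ b)
      (by rw [Category.assoc, ← hb, reassoc_of% h0, zero_comp])
    refine (ConcreteCategory.congr_hom (η.naturality s.op) b).symm.trans ?_
    show η.app (op l) (G.map s ≫ b) = 0
    rw [ha]
    exact ConcreteCategory.congr_hom (NatTrans.congr_app hη (op l)) a
  let A := Σ i : J, {p : (i ⟶ j) × (G.obj i ⟶ T.obj₂) // G.map p.1 ≫ c = p.2 ≫ T.mor₂} ×
    Module.Dual k (H.obj (op i))
  haveI := hfin j
  obtain ⟨φ, hφ⟩ := exists_dual_of_finite (A := A) (U := Module.Dual k (H.obj (op j)))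
      (fun a => a.2.2.comp (H.map a.2.1.1.1.op).hom) (fun a => a.2.2 (η.app (op a.1) a.2.1.1.2)) fun s => by
    let e := s.equivFin
    let f : Fin s.card → J := fun a => (e.symm a).1.1
    let u : (⨁ f) ⟶ j := biproduct.desc fun a => (e.symm a).1.2.1.1.1
    let b : G.obj (⨁ f) ⟶ T.obj₂ := ∑ a, G.map (biproduct.π f a) ≫ (e.symm a).1.2.1.1.2
    have hι : ∀ a, G.map (biproduct.ι f a) ≫ b = (e.symm a).1.2.1.1.2 := ι_sum G f _
    have hub : G.map u ≫ c = b ≫ T.mor₂ := hom_ext_ι G f _ _ fun a => by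
      rw [reassoc_of% (hι a), ← G.map_comp_assoc, biproduct.ι_desc]
      exact (e.symm a).1.2.1.2
    obtain ⟨z, hz⟩ := single _ u b hub
    refine ⟨Module.Dual.eval k _ z, fun a ha => ?_⟩
    show a.2.2 (H.map a.2.1.1.1.op z) = a.2.2 (η.app (op a.1) a.2.1.1.2)
    have key : ∀ i : Fin s.card, H.map (e.symm i).1.2.1.1.1.op z = η.app (op (f i)) (e.symm i).1.2.1.1.2 := fun i => by
      rw [← hι i]
      refine Eq.trans ?_ (ConcreteCategory.congr_hom (η.naturality (biproduct.ι f i).op) b).symm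
      show H.map (e.symm i).1.2.1.1.1.op z = H.map (biproduct.ι f i).op (η.app (op (⨁ f)) b)
      rw [← hz, ← ModuleCat.comp_apply, ← H.map_comp, ← op_comp, biproduct.ι_desc]
    have hk : ∀ x : s, H.map x.1.2.1.1.1.op z = η.app (op x.1.1) x.1.2.1.1.2 := fun x => by
      obtain ⟨i, rfl⟩ := e.symm.surjective x
      exact key i
    exact congrArg a.2.2 (hk ⟨a, ha⟩)
  refine ⟨(Module.evalEquiv k (H.obj (op j))).symm φ, fun i u b hb => ?_⟩
  haveI := hfin i
  refine (Module.forall_dual_apply_eq_zero_iff k _).1 (fun l => ?_) |> sub_eq_zero.1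
  rw [map_sub, sub_eq_zero, ← hφ ⟨i, ⟨(u, b), hb⟩, l⟩]
  exact (Module.apply_evalEquiv_symm_apply k _ (l.comp (H.map u.op).hom) φ)

/-- Morphisms from the restricted Yoneda functor to `H` form a cohomological functor. -/
theorem exists_extend {T : Triangle D} (hT : T ∈ distTriang D) (η : (R (k := k) G).obj T.obj₂ ⟶ H)
    (hη : (R (k := k) G).map T.mor₁ ≫ η = 0) :
    ∃ ζ : (R (k := k) G).obj T.obj₃ ⟶ H, (R (k := k) G).map T.mor₂ ≫ ζ = η := by
  classical
  let X := Σ j : J, (G.obj j ⟶ T.obj₃)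
  let e (j : J) (c : G.obj j ⟶ T.obj₃) : Module.Dual k (H.obj (op j)) →ₗ[k] Π₀ x : X, Module.Dual k (H.obj (op x.1)) :=
    DFinsupp.lsingle (R := k) (M := fun x : X => Module.Dual k (H.obj (op x.1))) ⟨j, c⟩
  let A := (Σ j : J, (G.obj j ⟶ T.obj₂) × Module.Dual k (H.obj (op j))) ⊕
    (Σ i j : J, (i ⟶ j) × (G.obj j ⟶ T.obj₃) × Module.Dual k (H.obj (op i))) ⊕
    (Σ j : J, k × (G.obj j ⟶ T.obj₃) × (G.obj j ⟶ T.obj₃) × Module.Dual k (H.obj (op j)))
  let v : A → Π₀ x : X, Module.Dual k (H.obj (op x.1)) :=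
    Sum.elim (fun a => e a.1 (a.2.1 ≫ T.mor₂) a.2.2)
      (Sum.elim (fun a => e a.2.1 a.2.2.2.1 (a.2.2.2.2.comp (H.map a.2.2.1.op).hom) +
          (-1 : k) • e a.1 (G.map a.2.2.1 ≫ a.2.2.2.1) a.2.2.2.2)
        (fun a => e a.1 (a.2.1 • a.2.2.1 + a.2.2.2.1) a.2.2.2.2 + (-a.2.1) • e a.1 a.2.2.1 a.2.2.2.2 +
          (-1 : k) • e a.1 a.2.2.2.1 a.2.2.2.2))
  let r : A → k := Sum.elim (fun a => a.2.2 (η.app (op a.1) a.2.1)) (fun _ => 0)
  let coords : A → Finset X :=
    Sum.elim (fun a => {⟨a.1, a.2.1 ≫ T.mor₂⟩})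
      (Sum.elim (fun a => {⟨a.2.1, a.2.2.2.1⟩, ⟨a.1, G.map a.2.2.1 ≫ a.2.2.2.1⟩})
        (fun a => {⟨a.1, a.2.1 • a.2.2.1 + a.2.2.2.1⟩, ⟨a.1, a.2.2.1⟩, ⟨a.1, a.2.2.2.1⟩}))
  obtain ⟨φ, hφ⟩ := exists_dual_of_finite v r fun s => by
    let S : Finset X := s.biUnion coords
    let eS := S.equivFin
    let f : Fin S.card → J := fun i => (eS.symm i).1.1
    let c : G.obj (⨁ f) ⟶ T.obj₃ := ∑ i, G.map (biproduct.π f i) ≫ (eS.symm i).1.2
    have hι₀ : ∀ i, G.map (biproduct.ι f i) ≫ c = (eS.symm i).1.2 := ι_sum G f _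
    have hι' : ∀ x : S, ∃ p : x.1.1 ⟶ ⨁ f, G.map p ≫ c = x.1.2 := fun x => by
      obtain ⟨i, rfl⟩ := eS.symm.surjective x
      exact ⟨biproduct.ι f i, hι₀ i⟩
    choose inc hι using hι'
    obtain ⟨z, hz⟩ := exists_local G H hlin hfib hcoh hfin hT η hη _ c
    let ζ : ∀ x : X, H.obj (op x.1) := fun x =>
      if hx : x ∈ S then H.map (inc ⟨x, hx⟩).op z else 0
    let φ : (Π₀ x : X, Module.Dual k (H.obj (op x.1))) →ₗ[k] k :=
      DFinsupp.lsum k fun x => Module.Dual.eval k _ (ζ x)
    have hφe : ∀ (x : X) (l : Module.Dual k (H.obj (op x.1))), φ (e x.1 x.2 l) = l (ζ x) := fun x l =>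
      DFinsupp.lsum_single k (fun x : X => Module.Dual.eval k (H.obj (op x.1)) (ζ x)) x l
    refine ⟨φ, fun a ha => ?_⟩
    have hS : ∀ x ∈ coords a, x ∈ S := fun x hx => Finset.mem_biUnion.2 ⟨a, ha, hx⟩
    rcases a with ⟨j, b, l⟩ | ⟨i, j, u, c', l⟩ | ⟨j, t, c₁, c₂, l⟩
    · have hx := hS ⟨j, b ≫ T.mor₂⟩ (Finset.mem_singleton_self _)
      show φ (e j (b ≫ T.mor₂) l) = l (η.app (op j) b)
      rw [hφe ⟨j, b ≫ T.mor₂⟩]
      simp only [ζ, dif_pos hx]
      exact congrArg l (hz _ _ b (hι ⟨_, hx⟩))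
    · have hx := hS ⟨j, c'⟩ (by simp [coords])
      have hy := hS ⟨i, G.map u ≫ c'⟩ (by simp [coords])
      show φ (e j c' (l.comp (H.map u.op).hom) + (-1 : k) • e i (G.map u ≫ c') l) = 0
      rw [map_add, map_smul, hφe ⟨j, c'⟩, hφe ⟨i, G.map u ≫ c'⟩, smul_eq_mul, neg_one_mul, ← sub_eq_add_neg]
      simp only [ζ, dif_pos hx, dif_pos hy]
      have h0 := hz i (u ≫ inc ⟨_, hx⟩ - inc ⟨_, hy⟩) 0 (by
        rw [G.map_sub, Preadditive.sub_comp, G.map_comp, Category.assoc, hι ⟨_, hx⟩, hι ⟨_, hy⟩, sub_self,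
          zero_comp])
      rw [map_zero, op_sub, H.map_sub, op_comp, H.map_comp] at h0
      exact sub_eq_zero.2 (congrArg l (sub_eq_zero.1 h0))
    · have hx := hS ⟨j, t • c₁ + c₂⟩ (by simp [coords])
      have h1 := hS ⟨j, c₁⟩ (by simp [coords])
      have h2 := hS ⟨j, c₂⟩ (by simp [coords])
      show φ (e j (t • c₁ + c₂) l + (-t) • e j c₁ l + (-1 : k) • e j c₂ l) = 0
      rw [map_add, map_add, map_smul, map_smul, hφe ⟨j, t • c₁ + c₂⟩, hφe ⟨j, c₁⟩, hφe ⟨j, c₂⟩, neg_smul, smul_eq_mul (-1 : k),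
        neg_one_mul, ← sub_eq_add_neg, ← sub_eq_add_neg]
      simp only [ζ, dif_pos hx, dif_pos h1, dif_pos h2]
      have h0 := hz j (inc ⟨_, hx⟩ - t • inc ⟨_, h1⟩ - inc ⟨_, h2⟩) 0 (by
        rw [G.map_sub, G.map_sub, Functor.map_smul, Preadditive.sub_comp, Preadditive.sub_comp, Linear.smul_comp,
          hι ⟨_, hx⟩, hι ⟨_, h1⟩, hι ⟨_, h2⟩, zero_comp]
        simp [sub_sub])
      rw [map_zero, op_sub, op_sub, H.map_sub, H.map_sub, hlin] at h0
      have h3 := congrArg l h0
      simp only [ModuleCat.hom_sub, ModuleCat.hom_smul, LinearMap.sub_apply, LinearMap.smul_apply, map_sub,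
        map_smul, map_zero] at h3 ⊢
      exact h3
  haveI := hfin
  let ζ : ∀ x : X, H.obj (op x.1) := fun x => (Module.evalEquiv k (H.obj (op x.1))).symm (φ.comp (e x.1 x.2))
  have hζ : ∀ (j : J) (c : G.obj j ⟶ T.obj₃) (l : Module.Dual k (H.obj (op j))),
      l (ζ ⟨j, c⟩) = φ (e j c l) := fun j c l => Module.apply_evalEquiv_symm_apply k _ l _
  have hadd : ∀ (j : J) (t : k) (c₁ c₂ : G.obj j ⟶ T.obj₃),
      ζ ⟨j, t • c₁ + c₂⟩ = t • ζ ⟨j, c₁⟩ + ζ ⟨j, c₂⟩ := fun j t c₁ c₂ => by
    refine (Module.forall_dual_apply_eq_zero_iff k _).1 (fun l => ?_) |> sub_eq_zero.1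
    have h := hφ (Sum.inr (Sum.inr ⟨j, t, c₁, c₂, l⟩))
    simp only [v, r, Sum.elim_inr, map_add, map_smul, ← hζ, neg_smul, one_smul, ← sub_eq_add_neg] at h
    rw [map_sub, map_add, map_smul, ← sub_sub]
    exact h
  have hnat : ∀ (i j : J) (u : i ⟶ j) (c : G.obj j ⟶ T.obj₃),
      ζ ⟨i, G.map u ≫ c⟩ = H.map u.op (ζ ⟨j, c⟩) := fun i j u c => by
    refine (Module.forall_dual_apply_eq_zero_iff k _).1 (fun l => ?_) |> sub_eq_zero.1 |> Eq.symm
    rw [map_sub]
    have h := hφ (Sum.inr (Sum.inl ⟨i, j, u, c, l⟩))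
    simp only [v, r, Sum.elim_inr, Sum.elim_inl, map_add, map_smul, ← hζ, neg_smul, one_smul, ← sub_eq_add_neg] at h
    exact h
  have hzero : ∀ j : J, ζ ⟨j, 0⟩ = 0 := fun j => by
    have h := hadd j 1 0 0
    rw [show (1 : k) • (0 : G.obj j ⟶ T.obj₃) + 0 = 0 by simp, one_smul] at h
    exact left_eq_add.1 h
  let ζl : ∀ j : J, (G.obj j ⟶ T.obj₃) →ₗ[k] H.obj (op j) := fun j =>
    { toFun := fun c => ζ ⟨j, c⟩
      map_add' := fun a b => by
        have h := hadd j 1 a b
        rwa [one_smul k a, one_smul] at h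
      map_smul' := fun t a => by
        have h := hadd j t a 0
        rw [add_zero (t • a), hzero, add_zero] at h
        exact h }
  refine ⟨{ app := fun j => ModuleCat.ofHom (ζl j.unop)
            naturality := fun i j f => by
              ext c
              exact hnat j.unop i.unop f.unop c }, ?_⟩
  ext j b
  refine (Module.forall_dual_apply_eq_zero_iff k _).1 (fun l => ?_) |> sub_eq_zero.1
  rw [map_sub, sub_eq_zero]
  exact (hζ j.unop (b ≫ T.mor₂) l).trans (hφ (Sum.inl ⟨j.unop, b, l⟩))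

theorem isHomological_Hbar : (Hbar G H).IsHomological := by
  haveI : (Hbar G H).Additive := inferInstanceAs ((R (k := k) G).op ⋙ preadditiveYoneda.obj H).Additive
  refine ⟨fun T hT => ?_⟩
  rw [ShortComplex.ab_exact_iff]
  intro (η : (R (k := k) G).obj T.obj₂.unop ⟶ H) (hη : (R (k := k) G).map T.mor₂.unop ≫ η = 0)
  exact exists_extend G H hlin hfib hcoh hfin (unop_distinguished T hT) η hη

end Exact

theorem preservesLimitsOfShape_yoneda {C : Type*} [Category.{v} C] [Preadditive C] [UnivLE.{w, v}] (κ : Type w)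
    (W : C) : PreservesLimitsOfShape (Discrete κ) (preadditiveYoneda.obj W) := by
  haveI : HasLimitsOfSize.{w, w} AddCommGrpCat.{v} := AddCommGrpCat.hasLimitsOfSize
  haveI : PreservesLimitsOfShape (Discrete κ) (forget AddCommGrpCat.{v}) :=
    (inferInstance : PreservesLimitsOfSize.{w, w} (forget AddCommGrpCat.{v})).preservesLimitsOfShape
  haveI : ReflectsLimitsOfShape (Discrete κ) (forget AddCommGrpCat.{v}) :=
    reflectsLimitsOfShape_of_reflectsIsomorphisms
  haveI : PreservesLimitsOfShape (Discrete κ) (preadditiveYoneda.obj W ⋙ forget AddCommGrpCat.{v}) :=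
    inferInstanceAs (PreservesLimitsOfShape (Discrete κ) (yoneda.obj W))
  exact preservesLimitsOfShape_of_reflects_of_preserves _ (forget AddCommGrpCat.{v})

section Sums

open Groth.Agent.BrownRep (finHom finHom_induction)

variable [HasCoproducts.{w} D]
  (hcpt : ∀ (j : J) {κ : Type w} (X : κ → D) (α : G.obj j ⟶ ∐ X), α ∈ finHom X (G.obj j))

include hcpt

/-- The restricted Yoneda functor preserves coproducts. -/
theorem preservesColimitsOfShape_R (κ : Type w) : PreservesColimitsOfShape (Discrete κ) (R (k := k) G) := by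
  classical
  haveI : ∀ X : κ → D, PreservesColimit (Discrete.functor X) (R (k := k) G) := fun X => by
    refine preservesColimit_of_preserves_colimit_cocone (coproductIsCoproduct X)
      ((isColimitMapCoconeCofanMkEquiv _ _ _).symm ?_)
    have hfs : ∀ (j : J) (α : G.obj j ⟶ ∐ X), {x : κ | α ≫ Sigma.π X x ≠ 0}.Finite := fun j α => by
      refine finHom_induction (p := fun α : G.obj j ⟶ ∐ X => {x : κ | α ≫ Sigma.π X x ≠ 0}.Finite) (hcpt j X α)
        (by simp) (fun x β => (Set.finite_singleton x).subset fun y hy => ?_) fun a b ha hb => ?_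
      · by_contra hxy
        apply hy
        show (β ≫ Sigma.ι X x) ≫ Sigma.π X y = 0
        rw [Category.assoc, Sigma.ι_π_of_ne _ (fun h => hxy h.symm), comp_zero]
      · refine (ha.union hb).subset fun y hy => ?_
        by_contra hn
        simp only [Set.mem_union, Set.mem_ofPred_eq, not_or, not_not] at hn
        exact hy (by simp [Preadditive.add_comp, hn.1, hn.2])
    have hsupp : ∀ (s : Cofan fun x => (R (k := k) G).obj (X x)) (j : J) (α : G.obj j ⟶ ∐ X),
        (Function.support fun x => (s.inj x).app (op j) (α ≫ Sigma.π X x)).Finite := fun s j α =>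
      (hfs j α).subset fun x hx => by
        intro h0
        exact hx (by simp [h0])
    let L : ∀ (s : Cofan fun x => (R (k := k) G).obj (X x)) (j : J),
        (G.obj j ⟶ ∐ X) →ₗ[k] s.pt.obj (op j) := fun s j =>
      { toFun := fun α => ∑ᶠ x, (s.inj x).app (op j) (α ≫ Sigma.π X x)
        map_add' := fun a b => by
          rw [← finsum_add_distrib (hsupp s j a) (hsupp s j b)]
          exact finsum_congr fun x => by rw [Preadditive.add_comp]; exact map_add ((s.inj x).app (op j)).hom _ _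
        map_smul' := fun t a => by
          rw [RingHom.id_apply, smul_finsum' t (hsupp s j a)]
          exact finsum_congr fun x => by rw [Linear.smul_comp]; exact map_smul ((s.inj x).app (op j)).hom _ _ }
    refine Cofan.IsColimit.mk _ (fun s =>
      { app := fun j => ModuleCat.ofHom (L s j.unop)
        naturality := fun i j f => ?_ }) (fun s x => ?_) fun s m hm => ?_
    · ext α
      show L s j.unop (G.map f.unop ≫ α) = s.pt.map f (L s i.unop α)
      refine (finsum_congr fun x => ?_).trans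
        ((AddMonoidHom.map_finsum (s.pt.map f).hom.toAddMonoidHom (hsupp s i.unop α)).symm)
      rw [Category.assoc]
      exact ConcreteCategory.congr_hom ((s.inj x).naturality f) _
    · ext j c
      show L s j.unop (c ≫ Sigma.ι X x) = (s.inj x).app j c
      refine (finsum_eq_single _ x fun y hy => ?_).trans ?_
      · rw [Category.assoc, Sigma.ι_π_of_ne _ hy.symm, comp_zero]
        exact map_zero ((s.inj y).app j).hom
      · rw [Category.assoc, Sigma.ι_π_eq_id, Category.comp_id]
    · ext j α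
      show (m.app j).hom α = L s j.unop α
      refine finHom_induction (p := fun α => (m.app j).hom α = L s j.unop α) (hcpt j.unop X α)
        (by rw [map_zero, map_zero]) (fun x β => ?_) fun a b ha hb => by rw [map_add, map_add, ha, hb]
      refine (ConcreteCategory.congr_hom (NatTrans.congr_app (hm x) j) β).trans ?_
      show (s.inj x).app j β = L s j.unop (β ≫ Sigma.ι X x)
      refine ((finsum_eq_single _ x fun y hy => ?_).trans ?_).symm
      · rw [Category.assoc, Sigma.ι_π_of_ne _ hy.symm, comp_zero]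
        exact map_zero ((s.inj y).app j).hom
      · rw [Category.assoc, Sigma.ι_π_eq_id, Category.comp_id]
  exact preservesColimitsOfShape_of_discrete _

theorem preservesLimitsOfShape_Hbar [UnivLE.{w, v}] (κ : Type w) : PreservesLimitsOfShape (Discrete κ) (Hbar G H) := by
  haveI := preservesColimitsOfShape_R (k := k) G hcpt κ
  haveI := preservesColimitsOfShape_of_equiv (Discrete.opposite κ).symm (R (k := k) G)
  haveI : PreservesLimitsOfShape (Discrete κ) (R (k := k) G).op := preservesLimitsOfShape_op _ _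
  haveI : PreservesLimitsOfShape (Discrete κ) (preadditiveYoneda.obj H) :=
    preservesLimitsOfShape_yoneda κ H
  exact comp_preservesLimitsOfShape _ _

end Sums

/-- Yoneda: morphisms from a restricted representable functor are elements. -/
theorem eval_bijective (hlin : ∀ (i j : J) (r : k) (f : i ⟶ j), H.map (r • f).op = r • H.map f.op) (j : J) :
    Function.Bijective fun η : (R (k := k) G).obj (G.obj j) ⟶ H => η.app (op j) (𝟙 (G.obj j)) := by
  have key : ∀ (η : (R (k := k) G).obj (G.obj j) ⟶ H) (i : J) (f : i ⟶ j),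
      η.app (op i) (G.map f) = H.map f.op (η.app (op j) (𝟙 (G.obj j))) := fun η i f =>
    (congrArg (η.app (op i)) (Category.comp_id (G.map f)).symm).trans (ConcreteCategory.congr_hom (η.naturality f.op) _)
  refine ⟨fun η η' h => ?_, fun a => ?_⟩
  · ext i c
    obtain ⟨f, rfl⟩ := G.map_surjective c
    exact (key η _ f).trans ((congrArg (H.map f.op) h).trans (key η' _ f).symm)
  · let L : ∀ i : J, (G.obj i ⟶ G.obj j) →ₗ[k] H.obj (op i) := fun i =>
      { toFun := fun c => H.map (G.preimage c).op a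
        map_add' := fun c d => by
          rw [show G.preimage (c + d) = G.preimage c + G.preimage d from G.map_injective (by simp [G.map_add]),
            op_add, H.map_add]
          rfl
        map_smul' := fun t c => by
          rw [show G.preimage (t • c) = t • G.preimage c from G.map_injective (by simp), hlin]
          rfl }
    refine ⟨{ app := fun i => ModuleCat.ofHom (L i.unop)
              naturality := fun i i' f => ?_ }, ?_⟩
    · ext c
      show H.map (G.preimage (G.map f.unop ≫ c)).op a = H.map f (H.map (G.preimage c).op a)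
      rw [show G.preimage (G.map f.unop ≫ c) = f.unop ≫ G.preimage c from G.map_injective (by rw [G.map_preimage, G.map_comp, G.map_preimage]), op_comp,
        H.map_comp]
      rfl
    · show H.map (G.preimage (𝟙 (G.obj j))).op a = a
      rw [show G.preimage (𝟙 (G.obj j)) = 𝟙 j from G.map_injective (by simp), op_id, H.map_id]
      rfl

section Main

variable [HasZeroObject D] [HasShift D ℤ] [∀ n : ℤ, (shiftFunctor D n).Additive] [Pretriangulated D]
  [HasFiniteBiproducts J] [HasCoproducts.{w} D] [HasColimitsOfShape (Discrete ℕ) D] [LocallySmall.{w} D]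
  [UnivLE.{w, v}] [Small.{w} k]

/-- Cohomological functors with finite dimensional values on a subcategory of compact objects are representable. -/
theorem exists_rep (hlin : ∀ (i j : J) (r : k) (f : i ⟶ j), H.map (r • f).op = r • H.map f.op)
    (hfib : ∀ {i j : J} (f : i ⟶ j), ∃ (l : J) (s : l ⟶ i) (z : G.obj j ⟶ (G.obj l)⟦(1 : ℤ)⟧),
      Triangle.mk (G.map s) (G.map f) z ∈ distTriang D)
    (hcoh : ∀ {l i j : J} (s : l ⟶ i) (f : i ⟶ j) (z : G.obj j ⟶ (G.obj l)⟦(1 : ℤ)⟧),
      Triangle.mk (G.map s) (G.map f) z ∈ distTriang D →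
      ∀ y : H.obj (op i), H.map s.op y = 0 → ∃ x : H.obj (op j), H.map f.op x = y)
    (hfin : ∀ j : J, Module.Finite k (H.obj (op j)))
    (hcpt : ∀ (j : J) {κ : Type w} (X : κ → D) (α : G.obj j ⟶ ∐ X), α ∈ BrownRep.finHom X (G.obj j))
    {ι : Type w} {E : ι → D} (hE : BrownRepW.Perfect E)
    (hgen : ∀ C : D, (∀ (i : ι) (n : ℤ) (g : E i ⟶ C⟦n⟧), g = 0) → IsZero C)
    (hEG : ∀ (i : ι) (n : ℤ), ∃ j, Nonempty (G.obj j ≅ (E i)⟦n⟧)) :
    ∃ Y : D, Nonempty (H ≅ G.op ⋙ (linearYoneda k D).obj Y) := by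
  haveI := isHomological_Hbar G H hlin hfib hcoh hfin
  haveI : ∀ κ : Type w, PreservesLimitsOfShape (Discrete κ) (Hbar G H) :=
    preservesLimitsOfShape_Hbar G H hcpt
  haveI : ∀ p : ι × ULift.{w} ℤ, Small.{w} (BrownRepW.El (Hbar G H) (BrownRepW.shiftFamily E p)) := fun p => by
    obtain ⟨j, ⟨e⟩⟩ := hEG p.1 p.2.down
    haveI := hfin j
    obtain ⟨n, π, hπ⟩ := Module.Finite.exists_fin' k (H.obj (op j))
    haveI : Small.{w} (H.obj (op j)) := small_of_surjective hπ
    exact small_of_injective (f := fun η : (R (k := k) G).obj ((E p.1)⟦p.2.down⟧) ⟶ H =>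
      ((R (k := k) G).map e.hom ≫ η).app (op j) (𝟙 (G.obj j))) fun η η' h =>
        (cancel_epi ((R (k := k) G).map e.hom)).1 ((eval_bijective G H hlin j).1 h)
  obtain ⟨⟨Y, ⟨r⟩⟩⟩ := BrownRepW.isRepresentable_of_perfect (Hbar G H) hE hgen
  let η : (R (k := k) G).obj Y ⟶ H := r.homEquiv (𝟙 Y)
  have hr : ∀ {X : D} (f : X ⟶ Y), r.homEquiv f = (R (k := k) G).map f ≫ η := fun f =>
    (congrArg r.homEquiv (Category.comp_id f).symm).trans (r.homEquiv_comp f (𝟙 Y))
  haveI : ∀ j, IsIso (η.app j) := fun j => by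
    rw [ConcreteCategory.isIso_iff_bijective]
    have h := (eval_bijective G H hlin j.unop).comp (r.homEquiv (X := G.obj j.unop)).bijective
    have key : ∀ c : G.obj j.unop ⟶ Y, (r.homEquiv c).app j (𝟙 (G.obj j.unop)) = η.app j c := fun c => by
      rw [hr c]
      exact congrArg (η.app j) (Category.id_comp c)
    exact ⟨fun a b hab => h.1 ((key a).trans (hab.trans (key b).symm)), fun y => by
      obtain ⟨c, hc⟩ := h.2 y
      exact ⟨c, (key c).symm.trans hc⟩⟩
  exact ⟨Y, ⟨(NatIso.ofComponents (fun j => asIso (η.app j)) fun f => η.naturality f).symm⟩⟩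

end Main

end Groth.Agent.FinDimRep
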