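import Groth.Agent.FinDimRep.Core
import Groth.Agent.DQCohBrown.Cat
import Groth.Prelude.Def_KLin
import Groth.Prelude.Def_SGA6

/-!
# Representability of finite dimensional cohomological functors on perfect objects
-/

set_option autoImplicit false
set_option linter.style.haveILetI false
set_option backward.isDefEq.respectTransparency false
set_option maxHeartbeats 800000

universe u

open CategoryTheory CategoryTheory.Limits AlgebraicGeometry CategoryTheory.Pretriangulated Opposite

attribute [local instance] HasDerivedCategory.standard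

noncomputable section

namespace Groth.Agent.FinDimRep

open Groth.Agent.DCohLib Groth.Agent.DCohMore

variable {k : Type u} [Field k] {X : Scheme.{u}} [X.Over (Spec (CommRingCat.of k))]

theorem perfP_le : SGA6.perfP X ≤ DCoh.IsQCohD (X := X) := fun _ h => DCohMore.isQCohD_of_isPerfect h

/-- The inclusion of perfect objects into objects with quasi-coherent cohomology. -/
abbrev perfToQCoh : (SGA6.perfP X).FullSubcategory ⥤ DCoh.DQCoh X := ObjectProperty.ιOfLE perfP_le

instance additive_perfToQCoh : (perfToQCoh (X := X)).Additive where map_add := rfl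

instance linear_perfToQCoh : (perfToQCoh (X := X)).Linear k where map_smul _ _ := rfl

theorem mem_finHom_perf [CompactSpace X] [QuasiSeparatedSpace X] (E : (SGA6.perfP X).FullSubcategory) {κ : Type u}
    (M : κ → DCoh.DQCoh X) (α : perfToQCoh.obj E ⟶ ∐ M) : α ∈ BrownRep.finHom M (perfToQCoh.obj E) := by
  classical
  let ι := ObjectProperty.ι (DCoh.IsQCohD (X := X))
  let K : κ → DCoh.D X := fun x => (M x).obj
  haveI := hasCoproduct_D' K
  let c := PreservesCoproduct.iso ι M
  obtain ⟨T, h, hh⟩ := exists_sum_of_homSum K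
    ((bijective_perfAux_homSum K (absorbs_of_isPerfect (show DCoh.IsPerfect E.obj from E.property) K
      fun x => (M x).property)).2 (α.hom ≫ c.hom))
  let h' : ∀ x, perfToQCoh.obj E ⟶ M x := fun x => ObjectProperty.homMk (h x)
  rw [show α = ∑ x ∈ T, h' x ≫ Sigma.ι M x from ι.map_injective (by
    rw [← cancel_mono c.hom, Functor.map_sum, Preadditive.sum_comp]
    refine hh.trans (Finset.sum_congr rfl fun x _ => ?_)
    rw [Functor.map_comp, Category.assoc]
    refine congrArg (h x ≫ ·) ?_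
    rw [← cancel_mono c.inv, Category.assoc, Iso.hom_inv_id, Category.comp_id]
    simp only [c, PreservesCoproduct.inv_hom]
    exact ι_comp_sigmaComparison ι M x)]
  exact sum_mem fun x _ => BrownRep.comp_ι_mem_finHom _

variable [(SGA6.perfP X).IsTriangulated]

theorem exists_fibre {i j : (SGA6.perfP X).FullSubcategory} (f : i ⟶ j) :
    ∃ (l : (SGA6.perfP X).FullSubcategory) (s : l ⟶ i)
      (z : perfToQCoh.obj j ⟶ (perfToQCoh.obj l)⟦(1 : ℤ)⟧),
      Triangle.mk (perfToQCoh.map s) (perfToQCoh.map f) z ∈ distTriang (DCoh.DQCoh X) := by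
  obtain ⟨Z, s, z, hT⟩ := distinguished_cocone_triangle₁ f.hom
  have hZ : DCoh.IsPerfect Z := isPerfect_iso ((shiftEquiv (DCoh.D X) (1 : ℤ)).unitIso.app Z).symm
    (isPerfect_shift (isPerfect_obj₃ _ (rot_of_distTriang _ hT) i.property j.property) (-1))
  let l : (SGA6.perfP X).FullSubcategory := ⟨Z, hZ⟩
  let c := ((ObjectProperty.ι (DCoh.IsQCohD (X := X))).commShiftIso (1 : ℤ)).app (perfToQCoh.obj l)
  let z' : (perfToQCoh.obj j).obj ⟶ ((perfToQCoh.obj l)⟦(1 : ℤ)⟧).obj := z ≫ c.inv
  refine ⟨l, ObjectProperty.homMk s, ObjectProperty.homMk z', ?_⟩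
  refine isomorphic_distinguished _ hT _ (Triangle.isoMk _ _ (Iso.refl _) (Iso.refl _) (Iso.refl _) ?_ ?_ ?_)
  · exact (Category.comp_id _).trans (Category.id_comp _).symm
  · exact (Category.comp_id _).trans (Category.id_comp _).symm
  · refine ((congrArg (_ ≫ ·) ((shiftFunctor (DCoh.D X) (1 : ℤ)).map_id _)).trans (Category.comp_id _)).trans ?_
    refine Eq.trans ?_ (Category.id_comp _).symm
    exact (Category.assoc z c.inv c.hom).trans ((congrArg (z ≫ ·) c.inv_hom_id).trans (Category.comp_id z))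

/-- Cohomological functors with finite dimensional values on perfect objects are represented by quasi-coherent objects. -/
theorem exists_rep_perfect [CompactSpace X] [QuasiSeparatedSpace X]
    (H : ((SGA6.perfP X).FullSubcategory)ᵒᵖ ⥤ ModuleCat.{u + 1} k) [H.Additive]
    (hlin : ∀ (A B : (SGA6.perfP X).FullSubcategory) (r : k) (f : A ⟶ B), H.map (r • f).op = r • H.map f.op)
    (hcoh : ∀ T ∈ distTriang (DCoh.D X), ∀ (h₁ : DCoh.IsPerfect T.obj₁)
      (h₂ : DCoh.IsPerfect T.obj₂) (h₃ : DCoh.IsPerfect T.obj₃)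
      (y : H.obj (op ⟨T.obj₂, h₂⟩)),
      H.map (ObjectProperty.homMk T.mor₁ : (⟨T.obj₁, h₁⟩ : (SGA6.perfP X).FullSubcategory) ⟶ ⟨T.obj₂, h₂⟩).op y = 0 →
        ∃ z : H.obj (op ⟨T.obj₃, h₃⟩),
          H.map (ObjectProperty.homMk T.mor₂ : (⟨T.obj₂, h₂⟩ : (SGA6.perfP X).FullSubcategory) ⟶ ⟨T.obj₃, h₃⟩).op z = y)
    (hfin : ∀ E : (SGA6.perfP X).FullSubcategory, Module.Finite k (H.obj (op E))) :
    ∃ K : DCoh.D X, DCoh.IsQCohD K ∧
      Nonempty (H ≅ (ObjectProperty.ι (SGA6.perfP X)).op ⋙ (linearYoneda k (DCoh.D X)).obj K) := by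
  obtain ⟨P, hP, hgen⟩ := DQCohBrown.exists_generator (X := X)
  have hcoh' : ∀ {l i j : (SGA6.perfP X).FullSubcategory} (s : l ⟶ i) (f : i ⟶ j)
      (z : perfToQCoh.obj j ⟶ (perfToQCoh.obj l)⟦(1 : ℤ)⟧),
      Triangle.mk (perfToQCoh.map s) (perfToQCoh.map f) z ∈ distTriang (DCoh.DQCoh X) →
      ∀ y : H.obj (op i), H.map s.op y = 0 → ∃ x : H.obj (op j), H.map f.op x = y := by
    intro l i j s f z hT y hy
    exact hcoh _ hT l.property i.property j.property y hy
  obtain ⟨Y, ⟨e⟩⟩ := exists_rep (perfToQCoh (X := X)) H hlin exists_fibre hcoh' hfin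
    (fun E => mem_finHom_perf E)
    (DQCohBrown.perfect_of_isPerfect (fun _ : PUnit.{u + 1} => P) fun _ => hP)
    (fun C hC => hgen C fun n g => hC PUnit.unit n g) fun _ n =>
      ⟨⟨P.obj⟦n⟧, isPerfect_shift hP n⟩, ⟨(ObjectProperty.ι (DCoh.IsQCohD (X := X))).preimageIso
        (((ObjectProperty.ι (DCoh.IsQCohD (X := X))).commShiftIso n).app P).symm⟩⟩
  refine ⟨Y.obj, Y.property, ⟨e ≪≫ NatIso.ofComponents (fun E => ?_) (fun {A B} g => ?_)⟩⟩
  · exact LinearEquiv.toModuleIso (LinearEquiv.ofBijective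
      ((ObjectProperty.ι (DCoh.IsQCohD (X := X))).mapLinearMap k)
      ⟨(ObjectProperty.ι (DCoh.IsQCohD (X := X))).map_injective, (ObjectProperty.ι (DCoh.IsQCohD (X := X))).map_surjective⟩)
  · ext c
    rfl

end Groth.Agent.FinDimRep
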