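import Groth.Agent.FinDimRep.DQCoh

/-!
# Morphisms into a representing object
-/

set_option autoImplicit false
set_option linter.style.haveILetI false
set_option backward.isDefEq.respectTransparency false
set_option maxHeartbeats 800000

universe u

open CategoryTheory CategoryTheory.Limits AlgebraicGeometry Opposite

attribute [local instance] HasDerivedCategory.standard

noncomputable section

namespace Groth.Agent.FinDimRep

variable {k : Type u} [Field k] {X : Scheme.{u}} [X.Over (Spec (CommRingCat.of k))]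
  [(SGA6.perfP X).IsTriangulated]

theorem finite_zero (H : ((SGA6.perfP X).FullSubcategory)ᵒᵖ ⥤ ModuleCat.{u + 1} k)
    (_ : ∀ (A B : (SGA6.perfP X).FullSubcategory) (r : k) (f : A ⟶ B), H.map (r • f).op = r • H.map f.op)
    (hfin : ∀ E : (SGA6.perfP X).FullSubcategory,
      (∀ n : ℤ, Module.Finite k (H.obj (op ((shiftFunctor ((SGA6.perfP X).FullSubcategory) n).obj E)))) ∧
      Set.Finite {n : ℤ | Nontrivial (H.obj (op ((shiftFunctor ((SGA6.perfP X).FullSubcategory) n).obj E)))})
    (E : (SGA6.perfP X).FullSubcategory) : Module.Finite k (H.obj (op E)) := by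
  haveI := (hfin E).1 0
  exact Module.Finite.equiv (H.mapIso (((shiftFunctorZero _ ℤ).app E).op)).toLinearEquiv.symm

/-- Finiteness of `H` transported to morphisms into a representing object. -/
theorem hom_findim (H : ((SGA6.perfP X).FullSubcategory)ᵒᵖ ⥤ ModuleCat.{u + 1} k)
    (hfin : ∀ E : (SGA6.perfP X).FullSubcategory,
      (∀ n : ℤ, Module.Finite k (H.obj (op ((shiftFunctor ((SGA6.perfP X).FullSubcategory) n).obj E)))) ∧
      Set.Finite {n : ℤ | Nontrivial (H.obj (op ((shiftFunctor ((SGA6.perfP X).FullSubcategory) n).obj E)))})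
    {K : DCoh.D X} (e : H ≅ (ObjectProperty.ι (SGA6.perfP X)).op ⋙ (linearYoneda k (DCoh.D X)).obj K)
    (E : DCoh.D X) (hE : DCoh.IsPerfect E) :
    (∀ i : ℤ, Module.Finite k (E ⟶ K⟦i⟧)) ∧ Set.Finite {i : ℤ | Nontrivial (E ⟶ K⟦i⟧)} := by
  let E' : (SGA6.perfP X).FullSubcategory := ⟨E, hE⟩
  let ι := ObjectProperty.ι (SGA6.perfP X)
  have key : ∀ i : ℤ, Nonempty (H.obj (op (E'⟦-i⟧)) ≃ₗ[k] (E ⟶ K⟦i⟧)) := fun i =>
    ⟨(e.app (op (E'⟦-i⟧))).toLinearEquiv.trans
      ((Linear.homCongr k ((ι.commShiftIso (-i)).app E') (Iso.refl K)).trans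
        ((LinearEquiv.ofBijective ((shiftFunctor (DCoh.D X) i).mapLinearMap k)
          ⟨(shiftFunctor (DCoh.D X) i).map_injective, (shiftFunctor (DCoh.D X) i).map_surjective⟩).trans
          (Linear.homCongr k ((shiftFunctorCompIsoId (DCoh.D X) (-i) i (neg_add_cancel i)).app E) (Iso.refl _))))⟩
  refine ⟨fun i => ?_, ((hfin E').2.image fun n => -n).subset fun i hi => ⟨-i, ?_, neg_neg i⟩⟩
  · obtain ⟨l⟩ := key i
    haveI := (hfin E').1 (-i)
    exact Module.Finite.equiv l
  · obtain ⟨l⟩ := key i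
    exact @Equiv.nontrivial _ _ l.toEquiv hi

end Groth.Agent.FinDimRep
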