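import Groth.Agent.FinDimRep.Core

/-!
# A small skeleton of the compact objects of a compactly generated triangulated category
-/

set_option autoImplicit false
set_option linter.style.haveILetI false
set_option linter.unusedSectionVars false
set_option backward.isDefEq.respectTransparency false

universe v u

open CategoryTheory Limits Pretriangulated ZeroObject

noncomputable section

namespace Groth.Agent.FinDimRep

variable {D : Type u} [Category.{v} D] [Preadditive D] [HasZeroObject D] [HasShift D ℤ]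
  [∀ n : ℤ, (shiftFunctor D n).Additive] [Pretriangulated D]

/-- One step of closing a small family under shifts, cones and retracts. -/
def step (p : Σ T : Type v, T → D) : Σ T : Type v, T → D :=
  ⟨p.1 ⊕ (p.1 × ULift.{v} ℤ) ⊕ (Σ a b : p.1, (p.2 a ⟶ p.2 b)) ⊕ (Σ a : p.1, (p.2 a ⟶ p.2 a)),
    Sum.elim p.2 (Sum.elim (fun a => (p.2 a.1)⟦a.2.down⟧)
      (Sum.elim (fun f => (distinguished_cocone_triangle f.2.2).choose) fun e => by
        classical
        exact if h : ∃ (X : D) (i : X ⟶ p.2 e.1) (r : p.2 e.1 ⟶ X), i ≫ r = 𝟙 X ∧ r ≫ i = e.2 then h.choose else 0))⟩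

variable {ι : Type v} (E : ι → D)

/-- The stages of the construction. -/
def stage : ℕ → Σ T : Type v, T → D
  | 0 => ⟨ι ⊕ PUnit.{v + 1}, Sum.elim E fun _ => 0⟩
  | n + 1 => step (stage n)

/-- A small index type. -/
abbrev Idx : Type v := Σ n : ℕ, (stage E n).1

/-- The objects of the skeleton. -/
abbrev obj (t : Idx E) : D := (stage E t.1).2 t.2

/-- Objects isomorphic to members of the skeleton. -/
def Q : ObjectProperty D := fun X => ∃ t, Nonempty (X ≅ obj E t)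

variable {E}

theorem exists_ge (t : Idx E) : ∀ m : ℕ, ∃ t' : Idx E, t'.1 = t.1 + m ∧ obj E t' = obj E t
  | 0 => ⟨t, rfl, rfl⟩
  | m + 1 => by
    obtain ⟨⟨n, x⟩, hn, he⟩ := exists_ge t m
    exact ⟨⟨n + 1, Sum.inl x⟩, by dsimp only at hn ⊢; omega, he⟩

theorem exists_common (s t : Idx E) : ∃ (n : ℕ) (a b : (stage E n).1),
    (stage E n).2 a = obj E s ∧ (stage E n).2 b = obj E t := by
  obtain ⟨⟨n, a⟩, hn, ha⟩ := exists_ge s t.1
  obtain ⟨⟨n', b⟩, hn', hb⟩ := exists_ge t s.1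
  obtain rfl : n = n' := by dsimp only at hn hn'; omega
  exact ⟨n, a, b, ha, hb⟩

instance : (Q E).IsClosedUnderIsomorphisms := ⟨fun e ⟨t, ⟨e'⟩⟩ => ⟨t, ⟨e.symm ≪≫ e'⟩⟩⟩

theorem Q_obj (i : ι) : Q E (E i) := ⟨⟨0, Sum.inl i⟩, ⟨Iso.refl _⟩⟩

instance containsZero_Q : (Q E).ContainsZero := ⟨⟨0, isZero_zero D, ⟨0, Sum.inr PUnit.unit⟩, ⟨Iso.refl _⟩⟩⟩

instance shift_Q : (Q E).IsStableUnderShift ℤ :=
  ⟨fun n => ⟨fun X ⟨⟨m, x⟩, ⟨e⟩⟩ => ⟨⟨m + 1, Sum.inr (Sum.inl (x, ⟨n⟩))⟩, ⟨(shiftFunctor D n).mapIso e⟩⟩⟩⟩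

theorem Q_cone (T : Triangle D) (hT : T ∈ distTriang D) (h₁ : Q E T.obj₁) (h₂ : Q E T.obj₂) : Q E T.obj₃ := by
  obtain ⟨s, ⟨e₁⟩⟩ := h₁
  obtain ⟨t, ⟨e₂⟩⟩ := h₂
  obtain ⟨n, a, b, ha, hb⟩ := exists_common s t
  let f : (stage E n).2 a ⟶ (stage E n).2 b := eqToHom ha ≫ e₁.inv ≫ T.mor₁ ≫ e₂.hom ≫ eqToHom hb.symm
  obtain ⟨g, h, hT'⟩ := (distinguished_cocone_triangle f).choose_spec
  exact ⟨⟨n + 1, Sum.inr (Sum.inr (Sum.inl ⟨a, b, f⟩))⟩, ⟨Triangle.π₃.mapIso (isoTriangleOfIso₁₂ T _ hT hT'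
    (e₁ ≪≫ eqToIso ha.symm) (e₂ ≪≫ eqToIso hb.symm) (by simp [f]))⟩⟩

instance isTriangulated_Q : (Q E).IsTriangulated where
  toIsTriangulatedClosed₂ := .mk' fun T hT h₁ h₃ =>
    Q_cone _ (inv_rot_of_distTriang _ hT) ((Q E).le_shift (-1 : ℤ) _ h₃) h₁

instance retracts_Q : (Q E).IsStableUnderRetracts := ⟨fun {X Y} r hY => by
  classical
  obtain ⟨⟨n, a⟩, ⟨e⟩⟩ := hY
  let p : (stage E n).2 a ⟶ (stage E n).2 a := e.inv ≫ r.r ≫ r.i ≫ e.hom
  have h : ∃ (Z : D) (i : Z ⟶ (stage E n).2 a) (q : (stage E n).2 a ⟶ Z), i ≫ q = 𝟙 Z ∧ q ≫ i = p :=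
    ⟨X, r.i ≫ e.hom, e.inv ≫ r.r, by simp, by simp [p]⟩
  obtain ⟨i, q, hiq, hqi⟩ := h.choose_spec
  refine ⟨⟨n + 1, Sum.inr (Sum.inr (Sum.inr ⟨a, p⟩))⟩, ⟨?_⟩⟩
  refine Iso.trans (?_ : X ≅ h.choose) (eqToIso (dif_pos h).symm)
  refine ⟨r.i ≫ e.hom ≫ q, i ≫ e.inv ≫ r.r, ?_, ?_⟩
  · simp only [Category.assoc, reassoc_of% hqi, p]
    simp
  · have h2 : i ≫ p = i := (congrArg (i ≫ ·) hqi.symm).trans ((reassoc_of% hiq) i)
    calc (i ≫ e.inv ≫ r.r) ≫ r.i ≫ e.hom ≫ q = (i ≫ p) ≫ q := by simp [p]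
      _ = 𝟙 _ := by rw [h2, hiq]⟩

theorem Q_of_compact [IsTriangulated D] [HasCoproducts.{v} D] [HasColimitsOfShape (Discrete ℕ) D] [Nonempty ι]
    (hc : ∀ i, CohDer.IsCompactObject (E i)) (hg : CohDer.Generates E) (X : D)
    (hX : CohDer.IsCompactObject X) : Q E X := by
  obtain ⟨K, f, i, hoc, h0, hs⟩ := BrownRep.exists_resolution E hc hg X
  obtain ⟨n, ψ, hψ⟩ := BrownRep.exists_factor_hocolim hoc hX (𝟙 X)
  obtain ⟨s, hne, E', g, h, hE', hgh⟩ := BrownRep.fac_tower hc K f h0 hs n X hX ψ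
  have hQ : Q E E' := (ObjectProperty.triangEnvelope_le_iff _).2
    (show (fun Y : D => ∃ i ∈ s, Y = E i) ≤ Q E from fun _ ⟨j, _, hj⟩ => hj ▸ Q_obj j) _ hE'
  exact ObjectProperty.IsStableUnderRetracts.of_retract
    { i := g, r := h ≫ i n, retract := by rw [← Category.assoc, hgh]; exact hψ.symm } hQ

end Groth.Agent.FinDimRep

namespace Groth.Agent.FinDimRep

open Opposite

variable {D : Type u} [Category.{v} D] [Preadditive D] [HasZeroObject D] [HasShift D ℤ]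
  [∀ n : ℤ, (shiftFunctor D n).Additive] [Pretriangulated D] [IsTriangulated D] [HasCoproducts.{v} D]

/-- Indices of compact members of the skeleton. -/
abbrev CIdx {ι : Type v} (E : ι → D) : Type v := {t : Idx E // CohDer.IsCompactObject (obj E t)}

/-- The skeleton as a small category. -/
abbrev Sk {ι : Type v} (E : ι → D) : Type v := InducedCategory D fun t : CIdx E => obj E t.1

/-- The comparison with the subcategory of compact objects. -/
def toCpt {ι : Type v} (E : ι → D) :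
    Sk E ⥤ ObjectProperty.FullSubcategory (fun K : D => CohDer.IsCompactObject K) :=
  ObjectProperty.lift _ (inducedFunctor fun t : CIdx E => obj E t.1) fun t => t.2

/-- Cohomological functors with finite dimensional values on compact objects are representable. -/
theorem exists_rep_compact.{w} {k : Type w} [Field k] [Small.{v} k] [Linear k D] {ι : Type v} [Nonempty ι] (E : ι → D)
    (hc : ∀ i, CohDer.IsCompactObject (E i)) (hg : CohDer.Generates E)
    (H : (ObjectProperty.FullSubcategory (fun K : D => CohDer.IsCompactObject K))ᵒᵖ ⥤ ModuleCat.{v} k)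
    [H.Additive]
    (hlin : ∀ (X Y : ObjectProperty.FullSubcategory (fun K : D => CohDer.IsCompactObject K))
      (r : k) (f : X ⟶ Y), H.map (r • f).op = r • H.map f.op)
    (hcoh : ∀ T ∈ distTriang D, ∀ (h₁ : CohDer.IsCompactObject T.obj₁)
      (h₂ : CohDer.IsCompactObject T.obj₂) (h₃ : CohDer.IsCompactObject T.obj₃)
      (y : H.obj (op ⟨T.obj₂, h₂⟩)),
      H.map (ObjectProperty.homMk T.mor₁ : (⟨T.obj₁, h₁⟩ : ObjectProperty.FullSubcategory
          (fun K : D => CohDer.IsCompactObject K)) ⟶ ⟨T.obj₂, h₂⟩).op y = 0 →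
        ∃ z : H.obj (op ⟨T.obj₃, h₃⟩),
          H.map (ObjectProperty.homMk T.mor₂ : (⟨T.obj₂, h₂⟩ : ObjectProperty.FullSubcategory
            (fun K : D => CohDer.IsCompactObject K)) ⟶ ⟨T.obj₃, h₃⟩).op z = y)
    (hfin : ∀ X, Module.Finite k (H.obj X)) :
    ∃ Y : D, Nonempty (H ≅ (ObjectProperty.ι _).op ⋙ (linearYoneda k D).obj Y) := by
  haveI := hasColimitsOfShape_of_equivalence (C := D) (Discrete.equivalence (Equiv.ulift.{v} (α := ℕ)))
  haveI := BrownRep.isTriangulated_isCompactObject (D := D)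
  let G : Sk E ⥤ D := inducedFunctor fun t : CIdx E => obj E t.1
  haveI : G.Additive := ⟨rfl⟩
  haveI : G.Linear k := { map_smul := fun _ _ => rfl }
  haveI : (toCpt E).Additive := ⟨rfl⟩
  haveI : (toCpt E).Linear k := { map_smul := fun _ _ => rfl }
  have hex : ∀ X : D, CohDer.IsCompactObject X → ∃ j : Sk E, Nonempty (G.obj j ≅ X) := fun X hX => by
    obtain ⟨t, ⟨e⟩⟩ := Q_of_compact hc hg X hX
    exact ⟨(⟨t, BrownRep.isCompactObject_of_retract { i := e.inv, r := e.hom, retract := e.inv_hom_id } hX⟩ : CIdx E), ⟨e.symm⟩⟩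
  haveI : HasBinaryBiproducts (Sk E) := ⟨fun i j => by
    obtain ⟨l, ⟨e⟩⟩ := hex ((G.obj i) ⊞ (G.obj j))
      (BrownRep.isCompactObject_cone _
        (inv_rot_of_distTriang _ (binaryBiproductTriangle_distinguished (G.obj i) (G.obj j)))
        (BrownRep.isCompactObject_shift j.2 (-1)) i.2)
    exact hasBinaryBiproduct_of_total (C := Sk E)
      { pt := l
        fst := InducedCategory.homMk (e.hom ≫ biprod.fst)
        snd := InducedCategory.homMk (e.hom ≫ biprod.snd)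
        inl := InducedCategory.homMk (biprod.inl ≫ e.inv)
        inr := InducedCategory.homMk (biprod.inr ≫ e.inv)
        inl_fst := InducedCategory.hom_ext ((by simp : ((biprod.inl : G.obj i ⟶ G.obj i ⊞ G.obj j) ≫ e.inv) ≫ e.hom ≫ biprod.fst = (biprod.inl : G.obj i ⟶ G.obj i ⊞ G.obj j) ≫ biprod.fst).trans biprod.inl_fst)
        inl_snd := InducedCategory.hom_ext ((by simp : ((biprod.inl : G.obj i ⟶ G.obj i ⊞ G.obj j) ≫ e.inv) ≫ e.hom ≫ biprod.snd = (biprod.inl : G.obj i ⟶ G.obj i ⊞ G.obj j) ≫ biprod.snd).trans biprod.inl_snd)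
        inr_fst := InducedCategory.hom_ext ((by simp : ((biprod.inr : G.obj j ⟶ G.obj i ⊞ G.obj j) ≫ e.inv) ≫ e.hom ≫ biprod.fst = (biprod.inr : G.obj j ⟶ G.obj i ⊞ G.obj j) ≫ biprod.fst).trans biprod.inr_fst)
        inr_snd := InducedCategory.hom_ext ((by simp : ((biprod.inr : G.obj j ⟶ G.obj i ⊞ G.obj j) ≫ e.inv) ≫ e.hom ≫ biprod.snd = (biprod.inr : G.obj j ⟶ G.obj i ⊞ G.obj j) ≫ biprod.snd).trans biprod.inr_snd) }
      (InducedCategory.hom_ext (by
        show (e.hom ≫ biprod.fst) ≫ biprod.inl ≫ e.inv + (e.hom ≫ biprod.snd) ≫ biprod.inr ≫ e.inv = 𝟙 _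
        simp only [Category.assoc, ← Preadditive.comp_add]
        rw [← Category.assoc biprod.fst, ← Category.assoc biprod.snd, ← Preadditive.add_comp, biprod.total]
        simp))⟩
  haveI : HasZeroObject (Sk E) := by
    obtain ⟨z, ⟨e⟩⟩ := hex 0 (BrownRep.isCompactObject_of_isZero (isZero_zero D))
    refine ⟨⟨z, (IsZero.iff_id_eq_zero z).2 (InducedCategory.hom_ext ?_)⟩⟩
    exact ((isZero_zero D).of_iso e).eq_of_src _ _
  haveI : HasTerminal (Sk E) := HasZeroObject.hasTerminal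
  haveI : HasFiniteProducts (Sk E) := hasFiniteProducts_of_has_binary_and_terminal
  haveI : HasFiniteBiproducts (Sk E) := HasFiniteBiproducts.of_hasFiniteProducts
  let H' : (Sk E)ᵒᵖ ⥤ ModuleCat.{v} k := (toCpt E).op ⋙ H
  have hfib : ∀ {i j : Sk E} (f : i ⟶ j), ∃ (l : Sk E) (s : l ⟶ i) (z : G.obj j ⟶ (G.obj l)⟦(1 : ℤ)⟧),
      Triangle.mk (G.map s) (G.map f) z ∈ distTriang D := fun {i j} f => by
    obtain ⟨Z, s, z, hT⟩ := distinguished_cocone_triangle₁ (G.map f)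
    obtain ⟨l, ⟨e⟩⟩ := hex Z (BrownRep.isCompactObject_of_retract
      { i := (shiftShiftNeg Z (1 : ℤ)).inv, r := (shiftShiftNeg Z (1 : ℤ)).hom,
        retract := Iso.inv_hom_id _ }
      (BrownRep.isCompactObject_shift (BrownRep.isCompactObject_cone _ (rot_of_distTriang _ hT) i.2 j.2) (-1)))
    refine ⟨l, InducedCategory.homMk (e.hom ≫ s), z ≫ e.inv⟦(1 : ℤ)⟧', ?_⟩
    exact isomorphic_distinguished _ hT _ (Triangle.isoMk _ _ e (Iso.refl _) (Iso.refl _)
      ((Category.comp_id (e.hom ≫ s))) ((Category.comp_id _).trans (Category.id_comp _).symm)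
      (by simp [← Functor.map_comp]))
  obtain ⟨Y, ⟨eY⟩⟩ := exists_rep G H' (fun i j r f => by
      show H.map ((toCpt E).map (r • f)).op = r • H.map ((toCpt E).map f).op
      rw [Functor.map_smul, hlin]) hfib
    (fun {l i j} s f z hT y hy => hcoh _ hT l.2 i.2 j.2 y hy) (fun j => hfin _)
    (fun j {κ} X α => (BrownRep.isCompactObject_iff _).1 j.2 κ X α)
    (BrownRep.perfect_of_compact hc) (fun C hC => hg C hC)
    (fun i n => hex _ (BrownRep.isCompactObject_shift (hc i) n))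
  haveI : (toCpt E).Full := inferInstanceAs (ObjectProperty.lift _ _ _).Full
  haveI : (toCpt E).Faithful := inferInstanceAs (ObjectProperty.lift _ _ _).Faithful
  haveI : (toCpt E).EssSurj := ⟨fun X => by
    obtain ⟨j, ⟨e⟩⟩ := hex X.obj X.property
    exact ⟨j, ⟨(ObjectProperty.ι _).preimageIso e⟩⟩⟩
  haveI : (toCpt E).IsEquivalence := { }
  exact ⟨Y, ⟨((Functor.whiskeringLeft _ _ (ModuleCat.{v} k)).obj (toCpt E).op).preimageIso eY⟩⟩

end Groth.Agent.FinDimRep
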