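import Mathlib

/-!
# Solving linear systems of equations from finite subsystems
-/

universe u₁ u₂ u₃

namespace Groth.Agent.FinDimRep

open Finsupp

/-- A system of linear equations on functionals is solvable if every finite subsystem is. -/
theorem exists_dual_of_finite {k : Type u₁} [Field k] {U : Type u₂} [AddCommGroup U] [Module k U]
    {A : Type u₃} (v : A → U) (r : A → k)
    (h : ∀ s : Finset A, ∃ φ : U →ₗ[k] k, ∀ a ∈ s, φ (v a) = r a) :
    ∃ φ : U →ₗ[k] k, ∀ a, φ (v a) = r a := by
  classical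
  let f : (A →₀ k) →ₗ[k] U := linearCombination k v
  let g : (A →₀ k) →ₗ[k] k := linearCombination k r
  have hle : LinearMap.ker f ≤ LinearMap.ker g := by
    intro l hl
    obtain ⟨φ, hφ⟩ := h l.support
    have h1 : φ (f l) = g l := by
      simp only [f, g, linearCombination_apply, Finsupp.sum, map_sum, map_smul]
      exact Finset.sum_congr rfl fun a ha => by rw [hφ a ha]
    rw [LinearMap.mem_ker] at hl ⊢
    rw [← h1, hl, map_zero]
  let g₀ : LinearMap.range f →ₗ[k] k :=
    ((LinearMap.ker f).liftQ g hle).comp f.quotKerEquivRange.symm.toLinearMap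
  obtain ⟨φ, hφ⟩ := g₀.exists_extend
  refine ⟨φ, fun a => ?_⟩
  have ha : v a ∈ LinearMap.range f := ⟨single a 1, by simp [f]⟩
  have h2 : φ (v a) = g₀ ⟨v a, ha⟩ := DFunLike.congr_fun hφ ⟨v a, ha⟩
  rw [h2]
  have h3 : f.quotKerEquivRange.symm ⟨v a, ha⟩ = Submodule.Quotient.mk (single a 1) := by
    rw [LinearEquiv.symm_apply_eq]
    ext
    simp [f]
  simp [g₀, h3, g]

end Groth.Agent.FinDimRep
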